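import Groth.Agent.AlgSpCohColimLib.Nerve
import Groth.Agent.AlgSpLib.Sep
import Groth.Agent.ModEtQcLib.Site
import Mathlib.RingTheory.Invariant.Basic
import Mathlib.LinearAlgebra.LinearIndependent.Basic
import Mathlib.AlgebraicGeometry.Morphisms.ClosedImmersion
import Mathlib.AlgebraicGeometry.Morphisms.FlatMono
import Mathlib.FieldTheory.IsAlgClosed.AlgebraicClosure

/-!
# Tuples of pairwise distinct lifts along a separated atlas
-/

set_option autoImplicit false
set_option linter.unusedSectionVars false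
set_option linter.style.haveILetI false
set_option backward.isDefEq.respectTransparency false
set_option backward.isDefEq.respectTransparency.types false
set_option maxHeartbeats 400000
set_option synthInstance.maxHeartbeats 100000

universe u

open CategoryTheory CategoryTheory.Limits AlgebraicGeometry Opposite AlgSp
open Groth.Agent AlgSpCohColim

noncomputable section

namespace AlgSpFibBound

variable {S : Scheme.{u}} [S.IsSeparated] {X : Sp S} {U : Over S} [IsAffine U.left]
  (p : (yon S).obj U ⟶ X) (hp : RepWith @Etale p) (hsep : IsSeparatedSp X)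

include hsep in
theorem isAffine_prd {E : EtOver X} (hE : IsAffine E.obj.left.left) : IsAffine (prd p hp E).obj.left.left := by
  let W := hp.rep.pullback E.obj.hom
  have h : RepWith @IsClosedImmersion (prod.lift (hp.rep.fst E.obj.hom) ((yon S).map (hp.rep.snd E.obj.hom))) :=
    AlgSpLib.repWith_of_isPullback (AlgSpLib.isPullback_diag_prod (hp.rep.isPullback E.obj.hom)) hsep
  let m : W ⟶ U ⨯ E.obj.left := prod.lift ((yon S).preimage (hp.rep.fst E.obj.hom)) (hp.rep.snd E.obj.hom)
  have hm : (yon S).map m ≫ (PreservesLimitPair.iso (yon S) U E.obj.left).hom =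
      prod.lift (hp.rep.fst E.obj.hom) ((yon S).map (hp.rep.snd E.obj.hom)) := by
    rw [PreservesLimitPair.iso_hom]
    apply Limits.prod.hom_ext <;>
      simp only [Category.assoc, prodComparison_fst, prodComparison_snd, prod.lift_fst, prod.lift_snd, ← Functor.map_comp,
        m, Functor.map_preimage]
  rw [← hm] at h
  haveI : IsClosedImmersion m.left :=
    (repWith_yon_map_iff _ _).1 (((RepWith @IsClosedImmersion).cancel_right_of_respectsIso _ _).1 h)
  haveI : IsAffine E.obj.left.left := hE
  haveI : IsSeparated (terminal.from S) := by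
    rw [← Scheme.isSeparated_iff]; infer_instance
  haveI : IsAffine (pullback U.hom E.obj.left.hom) :=
    isAffine_of_isAffineHom (pullback.mapDesc U.hom E.obj.left.hom (terminal.from S))
  haveI : IsAffine (U ⨯ E.obj.left).left := IsAffine.of_isIso (Over.prodLeftIsoPullback U E.obj.left).hom
  exact isAffine_of_isAffineHom m.left

include hsep in
theorem isAffine_pw : ∀ n, IsAffine (pw p hp n).obj.left.left
  | 0 => ‹IsAffine U.left›
  | n + 1 => isAffine_prd p hp hsep (isAffine_pw n)

/-- The diagonal of the atlas. -/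
def δ : e0 p hp ⟶ prd p hp (e0 p hp) := prdLift p hp (𝟙 _) (𝟙 _)

theorem prdLift_self {T : EtOver X} (a : T ⟶ e0 p hp) : prdLift p hp a a = a ≫ δ p hp :=
  prd_ext p hp (by rw [prdLift_π, Category.assoc, δ, prdLift_π, Category.comp_id])
    (by rw [prdLift_k, Category.assoc, δ, prdLift_k, Category.comp_id])

/-- Its image. -/
def D : Set (prd p hp (e0 p hp)).obj.left.left := Set.range (δ p hp).hom.left.left

theorem δ_prdπ : (δ p hp).hom.left.left ≫ (prdπ p hp (e0 p hp)).hom.left.left = 𝟙 U.left :=
  congrArg (fun q => q.hom.left.left) (prdLift_π p hp (𝟙 (e0 p hp)) (𝟙 _))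

include hsep in
theorem isClopen_D : IsClopen (D p hp) := by
  haveI : IsAffine (prd p hp (e0 p hp)).obj.left.left := isAffine_prd p hp hsep ‹IsAffine U.left›
  haveI : IsAffine (e0 p hp).obj.left.left := ‹IsAffine U.left›
  haveI : IsIso ((δ p hp).hom.left.left ≫ (prdπ p hp (e0 p hp)).hom.left.left) := by
    rw [δ_prdπ]; exact inferInstanceAs (IsIso (𝟙 U.left))
  haveI : IsClosedImmersion (δ p hp).hom.left.left :=
    IsClosedImmersion.of_comp _ (prdπ p hp (e0 p hp)).hom.left.left
  haveI := EtOver.etale_left (δ p hp)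
  exact ⟨(δ p hp).hom.left.left.isClosedEmbedding.isClosed_range, (δ p hp).hom.left.left.isOpenMap.isOpen_range⟩

theorem eq_of_range_subset {T : EtOver X} (a b : T ⟶ e0 p hp)
    (h : ∀ z, (prdLift p hp a b).hom.left.left z ∈ D p hp) : a = b := by
  haveI := EtOver.etale_left (δ p hp)
  haveI : Mono (δ p hp).hom.left.left := by
    haveI : IsSplitMono (δ p hp).hom.left.left := IsSplitMono.mk' ⟨_, δ_prdπ p hp⟩
    infer_instance
  haveI : IsOpenImmersion (δ p hp).hom.left.left := IsOpenImmersion.of_flat_of_mono _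
  let l := IsOpenImmersion.lift (δ p hp).hom.left.left (prdLift p hp a b).hom.left.left
    (by rintro _ ⟨z, rfl⟩; exact h z)
  have hl : l ≫ (δ p hp).hom.left.left = (prdLift p hp a b).hom.left.left := IsOpenImmersion.lift_fac _ _ _
  have h1 : a.hom.left.left = l := by
    have e := congrArg (fun q => q.hom.left.left) (prdLift_π p hp a b)
    refine e.symm.trans ?_
    change (prdLift p hp a b).hom.left.left ≫ (prdπ p hp (e0 p hp)).hom.left.left = l
    rw [← hl, Category.assoc, δ_prdπ]
    exact Category.comp_id _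
  have h2 : b.hom.left.left = l := by
    have e := congrArg (fun q => q.hom.left.left) (prdLift_k p hp a b)
    refine e.symm.trans ?_
    change (prdLift p hp a b).hom.left.left ≫ (prdk p hp (e0 p hp)).hom.left.left = l
    rw [← hl, Category.assoc]
    refine (congrArg (l ≫ ·) (congrArg (fun q => q.hom.left.left) (prdLift_k p hp (𝟙 (e0 p hp)) (𝟙 _)))).trans ?_
    exact Category.comp_id _
  exact EtOver.hom_ext _ _ (Over.OverMorphism.ext (h1.trans h2.symm))

theorem mem_D_of_comp_eq {T : EtOver X} (a b : T ⟶ e0 p hp) {Q : Over S} (z : Q ⟶ T.obj.left)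
    (h : z ≫ a.hom.left = z ≫ b.hom.left) (q : Q.left) : (prdLift p hp a b).hom.left.left (z.left q) ∈ D p hp := by
  have e : z ≫ (prdLift p hp a b).hom.left = z ≫ (a ≫ δ p hp).hom.left := hp.rep.hom_ext
    (by
      have e1 := congrArg (fun t => (yon S).map t.hom.left) (prdLift_k p hp a b)
      have e2 := congrArg (fun t => (yon S).map t.hom.left) (show (a ≫ δ p hp) ≫ prdk p hp _ = a by
        rw [Category.assoc, δ, prdLift_k, Category.comp_id])
      change (yon S).map ((prdLift p hp a b).hom.left ≫ (prdk p hp _).hom.left) = (yon S).map b.hom.left at e1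
      change (yon S).map ((a ≫ δ p hp).hom.left ≫ (prdk p hp _).hom.left) = (yon S).map a.hom.left at e2
      have hk : (yon S).map (prdk p hp (e0 p hp)).hom.left = hp.rep.fst (e0 p hp).obj.hom := (yon S).map_preimage _
      rw [← hk, ← Functor.map_comp, ← Functor.map_comp, Category.assoc, Category.assoc, Functor.map_comp, e1,
        Functor.map_comp, e2, ← Functor.map_comp, ← Functor.map_comp, h])
    (by
      have e1 := congrArg (fun t => t.hom.left) (prdLift_π p hp a b)
      have e2 := congrArg (fun t => t.hom.left) (show (a ≫ δ p hp) ≫ prdπ p hp _ = a by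
        rw [Category.assoc, δ, prdLift_π, Category.comp_id])
      rw [Category.assoc, Category.assoc]
      exact (congrArg (z ≫ ·) e1).trans (congrArg (z ≫ ·) e2).symm)
  refine ⟨a.hom.left.left (z.left q), ?_⟩
  have := congrArg (fun t => t.left q) e
  exact this.symm

/-- Pairwise distinct tuples of maps to the atlas. -/
def Inj {m : ℕ} {T : EtOver X} (t : Fin m → (T ⟶ e0 p hp)) : Prop :=
  ∀ i j, i ≠ j → ∀ z, (prdLift p hp (t i) (t j)).hom.left.left z ∉ D p hp

theorem prdLift_comp {T T' E : EtOver X} (g : T' ⟶ T) (a : T ⟶ E) (b : T ⟶ e0 p hp) :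
    g ≫ prdLift p hp a b = prdLift p hp (g ≫ a) (g ≫ b) :=
  prd_ext p hp (by rw [Category.assoc, prdLift_π, prdLift_π]) (by rw [Category.assoc, prdLift_k, prdLift_k])

theorem Inj.comp {m : ℕ} {T T' : EtOver X} {t : Fin m → (T ⟶ e0 p hp)} (h : Inj p hp t) (g : T' ⟶ T) :
    Inj p hp (fun k => g ≫ t k) := fun i j hij z hz => by
  rw [← prdLift_comp] at hz
  exact h i j hij (g.hom.left.left z) hz

theorem Inj.reindex {m m' : ℕ} {T : EtOver X} {t : Fin m → (T ⟶ e0 p hp)} (h : Inj p hp t) {σ : Fin m' → Fin m}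
    (hσ : Function.Injective σ) : Inj p hp (fun k => t (σ k)) := fun i j hij => h _ _ (fun e => hij (hσ e))

theorem card_lt_of_inj {d : ℕ}
    (hd : ∀ x : FieldPt X, x.IsGeometric → ENat.card ((FieldPt.liftsTo x).obj (e0 p hp)) ≤ d)
    {m : ℕ} (hm : d < m) {T : EtOver X} {t : Fin m → (T ⟶ e0 p hp)} (h : Inj p hp t) : IsEmpty T.obj.left.left := by
  refine ⟨fun z => ?_⟩
  obtain ⟨x, hx, l, hl, -⟩ := AlgSpRegLib.exists_geometric_over T z
  have hinj : Function.Injective fun i => (FieldPt.liftsTo x).map (t i) l := fun i j hij => by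
    by_contra hne
    refine h i j hne z ?_
    rw [← hl]
    exact mem_D_of_comp_eq p hp _ _ l.1 (congrArg Subtype.val hij) _
  have h1 : (m : ℕ∞) ≤ ENat.card ((FieldPt.liftsTo x).obj (e0 p hp)) := by
    refine le_trans ?_ (ENat.card_le_card_of_injective hinj)
    simp
  have := h1.trans (hd x hx)
  norm_cast at this
  omega

section Universal

variable (m : ℕ)

include hsep in
theorem isClopen_injSet : IsClopen {z : (pw p hp m).obj.left.left | ∀ i j, i ≠ j →
    (prdLift p hp (pwPr p hp m i) (pwPr p hp m j)).hom.left.left z ∉ D p hp} := by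
  simp only [Set.setOf_forall]
  exact isClopen_iInter_of_finite fun i => isClopen_iInter_of_finite fun j => isClopen_iInter_of_finite fun _ =>
    ((isClopen_D p hp hsep).compl).preimage (Scheme.Hom.continuous _)

/-- The locus of distinct tuples in a power of the atlas. -/
def injOpen : (pw p hp m).obj.left.left.Opens := ⟨_, (isClopen_injSet p hp hsep m).isOpen⟩

/-- The object of distinct tuples. -/
def Wobj : EtOver X := ModEtQc.openObj (pw p hp m) (injOpen p hp hsep m)

/-- The tautological tuple. -/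
def wt (k : Fin (m + 1)) : Wobj p hp hsep m ⟶ e0 p hp :=
  ModEtQc.openHom (pw p hp m) (injOpen p hp hsep m) ≫ pwPr p hp m k

theorem inj_wt : Inj p hp (wt p hp hsep m) := fun i j hij z => by
  intro hz
  rw [wt, wt, ← prdLift_comp] at hz
  exact z.2 i j hij hz

theorem exists_wLift {T : EtOver X} {t : Fin (m + 1) → (T ⟶ e0 p hp)} (h : Inj p hp t) :
    ∃ g : T ⟶ Wobj p hp hsep m, ∀ k, g ≫ wt p hp hsep m k = t k := by
  obtain ⟨l, hl⟩ := exists_pwLift p hp m t
  let V := injOpen p hp hsep m
  have hV : Set.range l.hom.left.left ⊆ Set.range V.ι := by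
    rintro _ ⟨z, rfl⟩
    rw [Scheme.Opens.range_ι]
    intro i j hij hz
    refine h i j hij z ?_
    have e : l ≫ prdLift p hp (pwPr p hp m i) (pwPr p hp m j) = prdLift p hp (t i) (t j) := by
      rw [prdLift_comp, hl, hl]
    rw [← e]
    exact hz
  let g₀ := IsOpenImmersion.lift V.ι l.hom.left.left hV
  have hg₀ : g₀ ≫ V.ι = l.hom.left.left := IsOpenImmersion.lift_fac _ _ _
  let g₁ : T.obj.left ⟶ (Wobj p hp hsep m).obj.left := Over.homMk g₀ (by
    change g₀ ≫ V.ι ≫ (pw p hp m).obj.left.hom = _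
    rw [← Category.assoc, hg₀]
    exact Over.w l.hom.left)
  have hg₁ : g₁ ≫ (ModEtQc.openHom (pw p hp m) V).hom.left = l.hom.left := Over.OverMorphism.ext hg₀
  refine ⟨EtOver.homMk g₁ ?_, fun k => ?_⟩
  · have e := EtOver.w (ModEtQc.openHom (pw p hp m) V)
    change (yon S).map g₁ ≫ (ModEtQc.openObj (pw p hp m) V).obj.hom = T.obj.hom
    refine (congrArg ((yon S).map g₁ ≫ ·) e.symm).trans ?_
    rw [← Category.assoc, ← Functor.map_comp, hg₁]
    exact EtOver.w l
  · rw [wt, ← Category.assoc, ← hl k]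
    exact congrArg (· ≫ pwPr p hp m k) (EtOver.hom_ext _ _ hg₁)

theorem wobj_ext {T : EtOver X} {a b : T ⟶ Wobj p hp hsep m}
    (h : ∀ k, a ≫ wt p hp hsep m k = b ≫ wt p hp hsep m k) : a = b := by
  have e := pw_ext p hp m (a ≫ ModEtQc.openHom (pw p hp m) (injOpen p hp hsep m))
    (b ≫ ModEtQc.openHom (pw p hp m) (injOpen p hp hsep m)) fun k => (Category.assoc _ _ _).trans
      ((h k).trans (Category.assoc _ _ _).symm)
  exact EtOver.hom_ext _ _ (Over.OverMorphism.ext
    ((cancel_mono (injOpen p hp hsep m).ι).1 (congrArg (fun q => q.hom.left.left) e)))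

theorem isAffine_wobj : IsAffine (Wobj p hp hsep m).obj.left.left := by
  haveI := isAffine_pw p hp hsep m
  let V := injOpen p hp hsep m
  haveI : IsClosedImmersion V.ι := IsClosedImmersion.of_isPreimmersion V.ι (by
    rw [Scheme.Opens.range_ι]
    exact (isClopen_injSet p hp hsep m).isClosed)
  change IsAffine (V : Scheme.{u})
  exact isAffine_of_isAffineHom V.ι

/-- The action of a permutation. -/
def perm (σ : Equiv.Perm (Fin (m + 1))) : Wobj p hp hsep m ⟶ Wobj p hp hsep m :=
  (exists_wLift p hp hsep m ((inj_wt p hp hsep m).reindex p hp σ.injective)).choose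

theorem perm_wt (σ : Equiv.Perm (Fin (m + 1))) (k : Fin (m + 1)) :
    perm p hp hsep m σ ≫ wt p hp hsep m k = wt p hp hsep m (σ k) :=
  (exists_wLift p hp hsep m ((inj_wt p hp hsep m).reindex p hp σ.injective)).choose_spec k

theorem perm_mul (σ τ : Equiv.Perm (Fin (m + 1))) :
    perm p hp hsep m σ ≫ perm p hp hsep m τ = perm p hp hsep m (σ * τ) :=
  wobj_ext p hp hsep m fun k => by rw [Category.assoc, perm_wt, perm_wt, perm_wt]; rfl

theorem perm_one : perm p hp hsep m 1 = 𝟙 _ :=
  wobj_ext p hp hsep m fun k => by rw [perm_wt, Category.id_comp]; rfl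

/-- Functions on the locus of distinct tuples. -/
abbrev WRing : Type u := Γ((Wobj p hp hsep m).obj.left.left, ⊤)

/-- Pullback of functions by a permutation. -/
def pullFn (σ : Equiv.Perm (Fin (m + 1))) : WRing p hp hsep m →+* WRing p hp hsep m :=
  (perm p hp hsep m σ).hom.left.left.appTop.hom

theorem pullFn_mul (σ τ : Equiv.Perm (Fin (m + 1))) (a : WRing p hp hsep m) :
    pullFn p hp hsep m (σ * τ) a = pullFn p hp hsep m σ (pullFn p hp hsep m τ a) := by
  rw [pullFn, ← perm_mul]
  exact congrArg (fun q => q.hom a) (Scheme.Hom.comp_appTop (perm p hp hsep m σ).hom.left.left (perm p hp hsep m τ).hom.left.left)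

theorem pullFn_one (a : WRing p hp hsep m) : pullFn p hp hsep m 1 a = a := by
  rw [pullFn, perm_one]
  exact congrArg (fun q => q.hom a) (Scheme.Hom.id_app ⊤)

/-- The action on functions. -/
def permAut : Equiv.Perm (Fin (m + 1)) →* (WRing p hp hsep m ≃+* WRing p hp hsep m) where
  toFun σ := RingEquiv.ofRingHom (pullFn p hp hsep m σ) (pullFn p hp hsep m σ⁻¹)
    (RingHom.ext fun a => by rw [RingHom.comp_apply, ← pullFn_mul, mul_inv_cancel, pullFn_one]; rfl)
    (RingHom.ext fun a => by rw [RingHom.comp_apply, ← pullFn_mul, inv_mul_cancel, pullFn_one]; rfl)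
  map_one' := RingEquiv.ext fun a => pullFn_one p hp hsep m a
  map_mul' σ τ := RingEquiv.ext fun a => pullFn_mul p hp hsep m σ τ a

/-- The trace is onto: a function whose translates sum to one. -/
theorem exists_trace_one : ∃ α : WRing p hp hsep m, ∑ σ : Equiv.Perm (Fin (m + 1)), pullFn p hp hsep m σ α = 1 := by
  classical
  let G := Equiv.Perm (Fin (m + 1))
  let A := WRing p hp hsep m
  letI : MulSemiringAction G A := MulSemiringAction.compHom A (permAut p hp hsep m)
  have hact : ∀ (g : G) (a : A), g • a = pullFn p hp hsep m g a := fun _ _ => rfl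
  let R := FixedPoints.subring A G
  haveI : Algebra.IsInvariant R A G := ⟨fun b hb => ⟨⟨b, hb⟩, rfl⟩⟩
  haveI : SMulCommClass G R A := ⟨fun g r a => by
    change g • ((r : A) * a) = (r : A) * g • a
    rw [smul_mul', r.2 g]⟩
  haveI : Algebra.IsIntegral R A := Algebra.IsInvariant.isIntegral R A G
  have htr : ∀ (a : A) (g : G), g • (∑ σ : G, σ • a) = ∑ σ : G, σ • a := fun a g => by
    rw [Finset.smul_sum]
    exact Fintype.sum_equiv (Equiv.mulLeft g) _ _ fun σ => smul_smul g σ a
  let J : Ideal R :=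
    { carrier := {r | ∃ a : A, ∑ σ : G, σ • a = (r : A)}
      add_mem' := by rintro r r' ⟨a, ha⟩ ⟨a', ha'⟩; exact ⟨a + a', by simp [smul_add, Finset.sum_add_distrib, ha, ha']⟩
      zero_mem' := ⟨0, by simp⟩
      smul_mem' := by
        rintro c r ⟨a, ha⟩
        refine ⟨(c : A) * a, ?_⟩
        simp only [smul_mul', c.2 _, ← Finset.mul_sum, ha]
        rfl }
  suffices hJ : J = ⊤ by
    obtain ⟨a, ha⟩ := (Ideal.eq_top_iff_one J).1 hJ
    exact ⟨a, ha⟩
  by_contra hJ
  obtain ⟨M, hM, hJM⟩ := J.exists_le_maximal hJ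
  obtain ⟨Q, hQ, hQM⟩ := Ideal.exists_ideal_over_maximal_of_isIntegral (S := A) M (by
    rw [(RingHom.injective_iff_ker_eq_bot _).1 (fun x y h => Subtype.ext h)]; exact bot_le)
  haveI := hQ
  letI : Field (A ⧸ Q) := Ideal.Quotient.field Q
  let χ : A →+* AlgebraicClosure (A ⧸ Q) := (algebraMap (A ⧸ Q) _).comp (Ideal.Quotient.mk Q)
  have hQ0 : ∀ a : A, χ (∑ σ : G, σ • a) = 0 := fun a => by
    have hmem : (⟨∑ σ : G, σ • a, htr a⟩ : R) ∈ M := hJM ⟨a, rfl⟩
    rw [← hQM] at hmem
    show algebraMap _ _ (Ideal.Quotient.mk Q (∑ σ : G, σ • a)) = 0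
    rw [Ideal.Quotient.eq_zero_iff_mem.2 (show (∑ σ : G, σ • a) ∈ Q from Ideal.mem_comap.1 hmem), map_zero]
  haveI := isAffine_wobj p hp hsep m
  let T := Wobj p hp hsep m
  let z : Spec (CommRingCat.of (AlgebraicClosure (A ⧸ Q))) ⟶ T.obj.left.left :=
    Spec.map (CommRingCat.ofHom χ) ≫ T.obj.left.left.isoSpec.inv
  have hdist : Function.Injective fun σ : G => ((χ.comp (pullFn p hp hsep m σ) : A →+* AlgebraicClosure (A ⧸ Q)).toMonoidHom) := by
    intro σ τ hστ
    by_contra hne
    obtain ⟨k, hk⟩ : ∃ k, σ k ≠ τ k := by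
      by_contra hh
      push Not at hh
      exact hne (Equiv.ext hh)
    have hσ : ∀ ρ : G, z ≫ (perm p hp hsep m ρ).hom.left.left =
        Spec.map (CommRingCat.ofHom (χ.comp (pullFn p hp hsep m ρ))) ≫ T.obj.left.left.isoSpec.inv := fun ρ => by
      rw [Category.assoc, ← Scheme.isoSpec_inv_naturality, ← Category.assoc, ← Spec.map_comp]
      rfl
    have he : χ.comp (pullFn p hp hsep m σ) = χ.comp (pullFn p hp hsep m τ) :=
      RingHom.ext fun a => DFunLike.congr_fun hστ a
    have hz : z ≫ (perm p hp hsep m σ).hom.left.left = z ≫ (perm p hp hsep m τ).hom.left.left := by rw [hσ, hσ, he]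
    let Qv : Over S := Over.mk (z ≫ T.obj.left.hom)
    let zz : Qv ⟶ T.obj.left := Over.homMk z rfl
    have hzz : zz ≫ (wt p hp hsep m (σ k)).hom.left = zz ≫ (wt p hp hsep m (τ k)).hom.left := by
      rw [← perm_wt p hp hsep m σ k, ← perm_wt p hp hsep m τ k]
      refine Over.OverMorphism.ext ?_
      show z ≫ (perm p hp hsep m σ).hom.left.left ≫ (wt p hp hsep m k).hom.left.left =
        z ≫ (perm p hp hsep m τ).hom.left.left ≫ (wt p hp hsep m k).hom.left.left
      rw [← Category.assoc, ← Category.assoc, hz]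
    exact inj_wt p hp hsep m _ _ hk _ (mem_D_of_comp_eq p hp _ _ zz hzz
      (IsLocalRing.closedPoint (AlgebraicClosure (A ⧸ Q))))
  have hli := (linearIndependent_monoidHom A (AlgebraicClosure (A ⧸ Q))).comp _ hdist
  have h0 := Fintype.linearIndependent_iff.1 hli (fun _ => 1) (funext fun a => by
    simp only [Function.comp_apply, one_smul, Finset.sum_apply, Pi.zero_apply]
    refine Eq.trans ?_ (hQ0 a)
    rw [map_sum]
    rfl) 1
  exact one_ne_zero h0

end Universal

end AlgSpFibBound
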