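import Groth.Agent.AlgSpFibBoundLib.Basic
import Groth.Agent.ModEtQcLib.Qc
import Mathlib.GroupTheory.Perm.Fin
import Mathlib.Data.Fin.Parity

/-!
# The ordered and alternating Čech bicomplex of an atlas
-/

set_option autoImplicit false
set_option linter.unusedSectionVars false
set_option linter.style.haveILetI false
set_option backward.isDefEq.respectTransparency false
set_option backward.isDefEq.respectTransparency.types false
set_option maxHeartbeats 400000
set_option synthInstance.maxHeartbeats 100000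

universe u v

open CategoryTheory CategoryTheory.Limits AlgebraicGeometry Opposite AlgSp
open Groth.Agent AlgSpCohColim ModEtQc

noncomputable section

namespace AlgSpFibBound

theorem sum_succAbove_sq {A : Type v} [AddCommGroup A] {m : ℕ} (f : (Fin m → Fin (m + 2)) → A) :
    ∑ i : Fin (m + 2), ((-1 : ℤ) ^ (i : ℕ)) •
      ∑ j : Fin (m + 1), ((-1 : ℤ) ^ (j : ℕ)) • f (fun k => i.succAbove (j.succAbove k)) = 0 := by
  simp only [Finset.smul_sum, smul_smul, ← pow_add]
  rw [← Fintype.sum_prod_type']
  refine Finset.sum_involution (fun a _ => (a.1.succAbove a.2, a.2.predAbove a.1)) ?_ ?_ (fun _ _ => Finset.mem_univ _) ?_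
  · rintro ⟨i, j⟩ -
    simp only [Fin.succAbove_succAbove_succAbove_predAbove, Fin.neg_one_pow_succAbove_add_predAbove, neg_smul,
      add_neg_cancel]
  · rintro ⟨i, j⟩ - - h
    exact Fin.succAbove_ne i j (congrArg Prod.fst h)
  · rintro ⟨i, j⟩ -
    have h1 := Fin.succAbove_succAbove_predAbove i j
    refine Prod.ext h1 (Fin.succAbove_right_injective (p := i) ?_)
    have h2 := Fin.succAbove_succAbove_predAbove (i.succAbove j) (j.predAbove i)
    rwa [h1] at h2

/-- A permutation of a face induced by a permutation. -/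
theorem exists_face_perm {m : ℕ} (σ : Equiv.Perm (Fin (m + 1))) (i : Fin (m + 1)) :
    ∃ τ : Equiv.Perm (Fin m), (∀ k, σ (i.succAbove k) = (σ i).succAbove (τ k)) ∧
      ((Equiv.Perm.sign τ : ℤˣ) : ℤ) = (-1) ^ (i : ℕ) * (-1) ^ (σ i : ℕ) * (Equiv.Perm.sign σ : ℤ) := by
  let π : Equiv.Perm (Fin (m + 1)) := (σ i).cycleRange * σ * i.cycleRange⁻¹
  obtain ⟨⟨p, τ⟩, hπ⟩ : ∃ pe, Equiv.Perm.decomposeFin.symm pe = π := ⟨_, Equiv.symm_apply_apply _ π⟩
  have hp : p = 0 := by
    rw [← Equiv.Perm.decomposeFin_symm_apply_zero p τ, hπ]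
    show (σ i).cycleRange (σ (i.cycleRange.symm 0)) = 0
    rw [Fin.cycleRange_symm_zero, Fin.cycleRange_self]
  subst hp
  refine ⟨τ, fun k => (σ i).cycleRange.injective ?_, ?_⟩
  · rw [Fin.cycleRange_succAbove]
    have := Equiv.Perm.decomposeFin_symm_apply_succ τ 0 k
    rw [hπ, Equiv.swap_self, Equiv.refl_apply] at this
    rw [← this]
    show _ = (σ i).cycleRange (σ (i.cycleRange.symm k.succ))
    rw [Fin.cycleRange_symm_succ]
  · have h : Equiv.Perm.sign π = Equiv.Perm.sign τ := by
      rw [← hπ, Equiv.Perm.decomposeFin.symm_sign, if_pos rfl, one_mul]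
    rw [← h]
    simp only [π, map_mul, map_inv, Fin.sign_cycleRange, Int.units_inv_eq_self]
    push_cast
    ring

variable {S : Scheme.{u}} [S.IsSeparated] {X : Sp S} {U : Over S} [IsAffine U.left]
  (p : (yon S).obj U ⟶ X) (hp : RepWith @Etale p) (hsep : IsSeparatedSp X) (M : ModEt X)

/-- Tuples of maps to the atlas. -/
abbrev Tup (k : ℕ) (T : EtOver X) : Type u := Fin k → (T ⟶ e0 p hp)

/-- Bare cochains. -/
abbrev Fn0 (n : ℕ) : Type (u + 1) := ∀ T : EtOver X, Tup p hp (n + 1) T → sec M T

/-- Bare double cochains. -/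
abbrev Fn (n q : ℕ) : Type (u + 1) :=
  ∀ (T : EtOver X) (_ : Tup p hp (n + 1) T) (s : Tup p hp (q + 1) T), Inj p hp s → sec M T

variable {p hp M}

/-- Naturality of cochains. -/
def Nat0 {n : ℕ} (x : Fn0 p hp M n) : Prop :=
  ∀ {T T' : EtOver X} (g : T' ⟶ T) (t : Tup p hp (n + 1) T), res M g (x T t) = x T' (fun k => g ≫ t k)

/-- Naturality and alternation. -/
structure Good {n q : ℕ} (η : Fn p hp M n q) : Prop where
  nat : ∀ {T T' : EtOver X} (g : T' ⟶ T) (t : Tup p hp (n + 1) T) (s : Tup p hp (q + 1) T) (h : Inj p hp s),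
    res M g (η T t s h) = η T' (fun k => g ≫ t k) (fun k => g ≫ s k) (h.comp p hp g)
  alt : ∀ {T : EtOver X} (t : Tup p hp (n + 1) T) (s : Tup p hp (q + 1) T) (h : Inj p hp s)
    (σ : Equiv.Perm (Fin (q + 1))),
    η T t (fun k => s (σ k)) (h.reindex p hp σ.injective) = (Equiv.Perm.sign σ : ℤ) • η T t s h

theorem Fn.congr {n q : ℕ} (η : Fn p hp M n q) {T : EtOver X} {t t' : Tup p hp (n + 1) T}
    {s s' : Tup p hp (q + 1) T} (ht : t = t') (hs : s = s') (h : Inj p hp s) (h' : Inj p hp s') :
    η T t s h = η T t' s' h' := by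
  subst ht; subst hs; rfl

/-- The differential in the ordered variable. -/
def dT {n q : ℕ} (η : Fn p hp M n q) : Fn p hp M (n + 1) q := fun T t s h =>
  ∑ i : Fin (n + 1 + 1), ((-1 : ℤ) ^ (i : ℕ)) • η T (fun k => t (i.succAbove k)) s h

/-- The differential in the alternating variable. -/
def dS {n q : ℕ} (η : Fn p hp M n q) : Fn p hp M n (q + 1) := fun T t s h =>
  ∑ i : Fin (q + 1 + 1), ((-1 : ℤ) ^ (i : ℕ)) •
    η T t (fun k => s (i.succAbove k)) (h.reindex p hp Fin.succAbove_right_injective)

/-- The differential of cochains. -/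
def d0 {n : ℕ} (x : Fn0 p hp M n) : Fn0 p hp M (n + 1) := fun T t =>
  ∑ i : Fin (n + 1 + 1), ((-1 : ℤ) ^ (i : ℕ)) • x T (fun k => t (i.succAbove k))

instance instZeroFn {n q : ℕ} : Zero (Fn p hp M n q) := ⟨fun _ _ _ _ => 0⟩

instance instSubFn {n q : ℕ} : Sub (Fn p hp M n q) := ⟨fun η η' T t s h => η T t s h - η' T t s h⟩

/-- Augmentation. -/
def aug {n : ℕ} (x : Fn0 p hp M n) : Fn p hp M n 0 := fun T t _ _ => x T t

theorem good_aug {n : ℕ} {x : Fn0 p hp M n} (hx : Nat0 x) : Good (aug x) where
  nat g t _ _ := hx g t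
  alt t s h σ := by
    rw [show σ = 1 from Equiv.ext fun k => Subsingleton.elim (α := Fin 1) _ _, map_one, Units.val_one, one_smul]
    rfl

theorem Good.sub {n q : ℕ} {η η' : Fn p hp M n q} (h : Good η) (h' : Good η') : Good (η - η') where
  nat g t s hs := by
    change res M g (η _ t s hs - η' _ t s hs) = η _ _ _ _ - η' _ _ _ _
    rw [map_sub, h.nat g t s hs, h'.nat g t s hs]
  alt t s hs σ := by
    change η _ _ _ _ - η' _ _ _ _ = (Equiv.Perm.sign σ : ℤ) • (η _ t s hs - η' _ t s hs)
    rw [smul_sub, h.alt, h'.alt]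

theorem Good.dT {n q : ℕ} {η : Fn p hp M n q} (h : Good η) : Good (dT η) where
  nat g t s hs := by
    simp only [AlgSpFibBound.dT, map_sum, map_zsmul, h.nat g]
  alt t s hs σ := by
    simp only [AlgSpFibBound.dT, Finset.smul_sum]
    refine Finset.sum_congr rfl fun i _ => ?_
    rw [h.alt, smul_comm]

theorem Good.dS {n q : ℕ} {η : Fn p hp M n q} (h : Good η) : Good (dS η) where
  nat g t s hs := by
    simp only [AlgSpFibBound.dS, map_sum, map_zsmul, h.nat g]
  alt {T} t s hs σ := by
    simp only [AlgSpFibBound.dS, Finset.smul_sum]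
    refine Fintype.sum_equiv σ _ _ fun i => ?_
    obtain ⟨τ, hτ, hsign⟩ := exists_face_perm σ i
    have e : (fun k => s (σ (i.succAbove k))) = fun k => s ((σ i).succAbove (τ k)) := funext fun k => by rw [hτ]
    rw [Fn.congr η rfl e _ ((hs.reindex p hp Fin.succAbove_right_injective).reindex p hp τ.injective),
      h.alt t (fun k => s ((σ i).succAbove k)) (hs.reindex p hp Fin.succAbove_right_injective) τ,
      smul_smul, smul_smul, hsign]
    congr 1
    rw [← mul_assoc, ← mul_assoc, ← pow_add, ← two_mul, pow_mul, neg_one_sq, one_pow, one_mul, mul_comm]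

theorem dT_sub {n q : ℕ} (η η' : Fn p hp M n q) : dT (η - η') = dT η - dT η' := by
  funext T t s h
  refine Eq.trans ?_ (Finset.sum_sub_distrib _ _)
  exact Finset.sum_congr rfl fun i _ => smul_sub _ _ _

theorem dS_sub {n q : ℕ} (η η' : Fn p hp M n q) : dS (η - η') = dS η - dS η' := by
  funext T t s h
  refine Eq.trans ?_ (Finset.sum_sub_distrib _ _)
  exact Finset.sum_congr rfl fun i _ => smul_sub _ _ _

theorem dT_dS {n q : ℕ} (η : Fn p hp M n q) : dT (dS η) = dS (dT η) := by
  funext T t s h
  simp only [dT, dS, Finset.smul_sum]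
  rw [Finset.sum_comm]
  exact Finset.sum_congr rfl fun i _ => Finset.sum_congr rfl fun j _ => smul_comm _ _ _

theorem dT_dT {n q : ℕ} (η : Fn p hp M n q) : dT (dT η) = 0 := by
  funext T t s h
  exact sum_succAbove_sq fun f => η T (fun k => t (f k)) s h

theorem dS_dS {n q : ℕ} (η : Fn p hp M n q) : dS (dS η) = 0 := by
  funext T t s h
  classical
  refine Eq.trans ?_ (sum_succAbove_sq fun f : Fin (q + 1) → Fin (q + 1 + 2) =>
    if hf : Function.Injective f then η T t (fun k => s (f k)) (h.reindex p hp hf) else 0)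
  refine Finset.sum_congr rfl fun i _ => congrArg _ (Finset.sum_congr rfl fun j _ => congrArg _ ?_)
  rw [dif_pos (show Function.Injective fun k => i.succAbove (j.succAbove k) from
    Fin.succAbove_right_injective.comp Fin.succAbove_right_injective)]

theorem dS_aug {n : ℕ} (x : Fn0 p hp M n) : dS (aug x) = 0 := by
  funext T t s h
  simp [dS, aug, Fin.sum_univ_two]
  rfl

theorem dT_aug {n : ℕ} (x : Fn0 p hp M n) : dT (aug x) = aug (d0 x) := rfl

section Locus

variable (p hp)

include hsep in
/-- Sections agree when they agree where a map avoids a tuple and where it meets it. -/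
theorem cover_ext {m : ℕ} {T : EtOver X} (a : T ⟶ e0 p hp) (s : Tup p hp m T) (hs : Inj p hp s) (x y : sec M T)
    (h1 : ∀ {T' : EtOver X} (g : T' ⟶ T),
      Inj p hp (Fin.cons (g ≫ a) fun k => g ≫ s k : Fin (m + 1) → (T' ⟶ e0 p hp)) → res M g x = res M g y)
    (h2 : ∀ {T' : EtOver X} (g : T' ⟶ T) (j : Fin m), g ≫ a = g ≫ s j → res M g x = res M g y) : x = y := by
  let A : Fin m → Set T.obj.left.left := fun j => (prdLift p hp a (s j)).hom.left.left ⁻¹' D p hp
  let B : Fin m → Set T.obj.left.left := fun j => (prdLift p hp (s j) a).hom.left.left ⁻¹' D p hp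
  have hA : ∀ j, IsClopen (A j) := fun j => (isClopen_D p hp hsep).preimage (Scheme.Hom.continuous _)
  have hB : ∀ j, IsClopen (B j) := fun j => (isClopen_D p hp hsep).preimage (Scheme.Hom.continuous _)
  let W : T.obj.left.left.Opens := ⟨⋂ j, (A j)ᶜ ∩ (B j)ᶜ,
    isOpen_iInter_of_finite fun j => ((hA j).compl.inter (hB j).compl).isOpen⟩
  let VA : Fin m → T.obj.left.left.Opens := fun j => ⟨A j, (hA j).isOpen⟩
  let VB : Fin m → T.obj.left.left.Opens := fun j => ⟨B j, (hB j).isOpen⟩
  let V : Option (Fin m ⊕ Fin m) → T.obj.left.left.Opens := fun o => o.elim W (Sum.elim VA VB)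
  refine eq_of_cover M (fun o => openObj T (V o)) (fun o => openHom T (V o)) (fun z => ?_) x y fun o => ?_
  · by_cases hA' : ∃ j, z ∈ A j
    · obtain ⟨j, hj⟩ := hA'
      exact ⟨some (Sum.inl j), ⟨z, hj⟩, rfl⟩
    by_cases hB' : ∃ j, z ∈ B j
    · obtain ⟨j, hj⟩ := hB'
      exact ⟨some (Sum.inr j), ⟨z, hj⟩, rfl⟩
    exact ⟨none, ⟨z, Set.mem_iInter.2 fun j => ⟨fun h => hA' ⟨j, h⟩, fun h => hB' ⟨j, h⟩⟩⟩, rfl⟩
  rcases o with _ | j | j
  · refine h1 _ fun i j hij z hz => ?_
    induction i using Fin.cases with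
    | zero =>
      induction j using Fin.cases with
      | zero => exact hij rfl
      | succ j =>
        simp only [Fin.cons_zero, Fin.cons_succ, ← prdLift_comp] at hz
        exact (Set.mem_iInter.1 z.2 j).1 hz
    | succ i =>
      induction j using Fin.cases with
      | zero =>
        simp only [Fin.cons_zero, Fin.cons_succ, ← prdLift_comp] at hz
        exact (Set.mem_iInter.1 z.2 i).2 hz
      | succ j =>
        simp only [Fin.cons_succ, ← prdLift_comp] at hz
        exact hs i j (fun e => hij (congrArg Fin.succ e)) _ hz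
  · refine h2 _ j (eq_of_range_subset p hp _ _ fun z => ?_)
    rw [← prdLift_comp]
    exact z.2
  · refine h2 _ j (eq_of_range_subset p hp _ _ fun z => ?_).symm
    rw [← prdLift_comp]
    exact z.2

theorem sec_eq_of_isEmpty {T : EtOver X} (h : IsEmpty T.obj.left.left) (x y : sec M T) : x = y :=
  eq_of_cover M (fun i : PEmpty.{1} => i.elim) (fun i => i.elim) (fun z => h.elim z) x y fun i => i.elim

include hsep in
set_option maxHeartbeats 1000000 in
/-- Extension by zero across the locus where a map meets a tuple. -/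
theorem exists_ext {n q : ℕ} {η : Fn p hp M n (q + 1)} (hη : Good η) {T : EtOver X} (t : Tup p hp (n + 1) T)
    (s : Tup p hp (q + 1) T) (hs : Inj p hp s) :
    ∃ y : sec M T, (∀ {T' : EtOver X} (g : T' ⟶ T)
      (hh : Inj p hp (Fin.cons (g ≫ t 0) fun k => g ≫ s k : Fin (q + 1 + 1) → (T' ⟶ e0 p hp))),
        res M g y = η T' (fun k => g ≫ t k) (Fin.cons (g ≫ t 0) fun k => g ≫ s k) hh) ∧
      ∀ {T' : EtOver X} (g : T' ⟶ T) (j : Fin (q + 1)), g ≫ t 0 = g ≫ s j → res M g y = 0 := by
  let a := t 0
  let A : Set T.obj.left.left := ⋃ j, ((prdLift p hp a (s j)).hom.left.left ⁻¹' D p hp ∪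
    (prdLift p hp (s j) a).hom.left.left ⁻¹' D p hp)
  have hA : IsClopen A := isClopen_iUnion_of_finite fun j =>
    ((isClopen_D p hp hsep).preimage (Scheme.Hom.continuous _)).union
      ((isClopen_D p hp hsep).preimage (Scheme.Hom.continuous _))
  let V : Bool → T.obj.left.left.Opens := fun b => if b then ⟨Aᶜ, hA.compl.isOpen⟩ else ⟨A, hA.isOpen⟩
  have hinj : Inj p hp (Fin.cons (openHom T (V true) ≫ a) fun k => openHom T (V true) ≫ s k :
      Fin (q + 1 + 1) → (openObj T (V true) ⟶ e0 p hp)) := fun i j hij z hz => by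
    induction i using Fin.cases with
    | zero =>
      induction j using Fin.cases with
      | zero => exact hij rfl
      | succ j =>
        simp only [Fin.cons_zero, Fin.cons_succ, ← prdLift_comp] at hz
        exact z.2 (Set.mem_iUnion.2 ⟨j, Or.inl hz⟩)
    | succ i =>
      induction j using Fin.cases with
      | zero =>
        simp only [Fin.cons_zero, Fin.cons_succ, ← prdLift_comp] at hz
        exact z.2 (Set.mem_iUnion.2 ⟨i, Or.inr hz⟩)
      | succ j =>
        simp only [Fin.cons_succ, ← prdLift_comp] at hz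
        exact hs i j (fun e => hij (congrArg Fin.succ e)) _ hz
  let v : ∀ b, sec M (openObj T (V b)) := fun b => match b with
    | true => η _ (fun k => openHom T (V true) ≫ t k) _ hinj
    | false => 0
  obtain ⟨y, hy⟩ := exists_glue_sec M (fun b => openObj T (V b)) (fun b => openHom T (V b))
    (fun z => by
      by_cases hz : z ∈ A
      · exact ⟨false, ⟨z, hz⟩, rfl⟩
      · exact ⟨true, ⟨z, hz⟩, rfl⟩) v (fun b b' => by
      by_cases hb : b = b'
      · subst hb
        have : EtOver.pullbackFst (openHom T (V b)) (openHom T (V b)) =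
            EtOver.pullbackSnd (openHom T (V b)) (openHom T (V b)) :=
          EtOver.hom_ext _ _ (Over.OverMorphism.ext ((cancel_mono (V b).ι).1
            (congrArg (fun q => q.hom.left.left) (EtOver.pullback_condition (openHom T (V b)) (openHom T (V b))))))
        rw [this]
      · refine sec_eq_of_isEmpty ⟨fun z => ?_⟩ _ _
        have e : (V b).ι ((EtOver.pullbackFst (openHom T (V b)) (openHom T (V b'))).hom.left.left z) =
            (V b').ι ((EtOver.pullbackSnd (openHom T (V b)) (openHom T (V b'))).hom.left.left z) :=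
          congrArg (fun q => q.hom.left.left z) (EtOver.pullback_condition (openHom T (V b)) (openHom T (V b')))
        have h1 := ((EtOver.pullbackFst (openHom T (V b)) (openHom T (V b'))).hom.left.left z).2
        have h2 := ((EtOver.pullbackSnd (openHom T (V b)) (openHom T (V b'))).hom.left.left z).2
        change (V b).ι _ ∈ V b at h1
        change (V b').ι _ ∈ V b' at h2
        rw [← e] at h2
        cases b <;> cases b'
        · exact hb rfl
        · exact h2 h1
        · exact h1 h2
        · exact hb rfl)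
  have hy1 := hy true
  have hy0 := hy false
  have hfac : ∀ {T' : EtOver X} (g : T' ⟶ T) (b : Bool), (∀ z, g.hom.left.left z ∈ V b) →
      ∃ g' : T' ⟶ openObj T (V b), g' ≫ openHom T (V b) = g := fun {T'} g b hg => by
    let g₀ := IsOpenImmersion.lift (V b).ι g.hom.left.left (by
      rintro _ ⟨z, rfl⟩
      rw [Scheme.Opens.range_ι]
      exact hg z)
    have hg₀ : g₀ ≫ (V b).ι = g.hom.left.left := IsOpenImmersion.lift_fac _ _ _
    let g₁ : T'.obj.left ⟶ (openObj T (V b)).obj.left := Over.homMk g₀ (by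
      change g₀ ≫ (V b).ι ≫ T.obj.left.hom = _
      rw [← Category.assoc, hg₀]
      exact Over.w g.hom.left)
    have hg₁ : g₁ ≫ (openHom T (V b)).hom.left = g.hom.left := Over.OverMorphism.ext hg₀
    refine ⟨EtOver.homMk g₁ ?_, EtOver.hom_ext _ _ hg₁⟩
    change (yon S).map g₁ ≫ (openObj T (V b)).obj.hom = _
    refine (congrArg ((yon S).map g₁ ≫ ·) (EtOver.w (openHom T (V b))).symm).trans ?_
    rw [← Category.assoc, ← Functor.map_comp, hg₁]
    exact EtOver.w g
  refine ⟨y, fun {T'} g hh => ?_, fun {T'} g j hj => ?_⟩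
  · obtain ⟨g', rfl⟩ := hfac g true fun z hz => by
      obtain ⟨j, hj | hj⟩ := Set.mem_iUnion.1 hz
      · refine hh 0 j.succ (Fin.succ_ne_zero j).symm z ?_
        simp only [Fin.cons_zero, Fin.cons_succ, ← prdLift_comp]
        exact hj
      · refine hh j.succ 0 (Fin.succ_ne_zero j) z ?_
        simp only [Fin.cons_zero, Fin.cons_succ, ← prdLift_comp]
        exact hj
    rw [res_comp, hy1, hη.nat g']
    refine Fn.congr η (funext fun k => by rw [Category.assoc]) (funext fun k => ?_) _ _
    induction k using Fin.cases with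
    | zero => simp only [Fin.cons_zero, Category.assoc]; rfl
    | succ k => simp only [Fin.cons_succ, Category.assoc]
  · obtain ⟨g', rfl⟩ := hfac g false fun z => by
      refine Set.mem_iUnion.2 ⟨j, Or.inl ?_⟩
      have e : g ≫ prdLift p hp a (s j) = (g ≫ a) ≫ δ p hp := by rw [prdLift_comp, ← hj, prdLift_self]
      exact ⟨(g ≫ a).hom.left.left z, (congrArg (fun q => q.hom.left.left z) e).symm⟩
    rw [res_comp, hy0, map_zero]

end Locus

theorem Inj.of_eq {m : ℕ} {T : EtOver X} {s s' : Tup p hp m T} (e : s = s') (h : Inj p hp s) : Inj p hp s' := e ▸ h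

theorem cons_comp {m : ℕ} {T T' T'' : EtOver X} (g' : T'' ⟶ T') (g : T' ⟶ T) (a : T ⟶ e0 p hp) (s : Tup p hp m T) :
    (Fin.cons (g' ≫ g ≫ a) fun k => g' ≫ g ≫ s k : Tup p hp (m + 1) T'') =
      (Fin.cons ((g' ≫ g) ≫ a) fun k => (g' ≫ g) ≫ s k : Tup p hp (m + 1) T'') := by
  simp only [Category.assoc]

theorem inj_single {T : EtOver X} (a : T ⟶ e0 p hp) : Inj p hp (fun _ : Fin 1 => a) := fun i j hij =>
  (hij (Subsingleton.elim i j)).elim

include hsep in
set_option maxHeartbeats 1000000 in
/-- Exactness in the alternating variable. -/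
theorem exists_dS_eq {n q : ℕ} {η : Fn p hp M n (q + 1)} (hη : Good η) (h0 : dS η = 0) :
    ∃ y : Fn p hp M n q, Good y ∧ dS y = η := by
  choose y hy1 hy2 using fun (T : EtOver X) (t : Tup p hp (n + 1) T) (s : Tup p hp (q + 1) T) (hs : Inj p hp s) =>
    exists_ext p hp hsep hη t s hs
  refine ⟨y, ⟨fun {T T'} g t s hs => ?_, fun {T} t s hs σ => ?_⟩, ?_⟩
  · refine cover_ext p hp hsep (g ≫ t 0) (fun k => g ≫ s k) (hs.comp p hp g) _ _ (fun g' hh => ?_) fun g' j hj => ?_
    · rw [← res_comp, hy1 T t s hs (g' ≫ g) (Inj.of_eq (cons_comp g' g (t 0) s) hh),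
        hy1 T' (fun k => g ≫ t k) (fun k => g ≫ s k) (hs.comp p hp g) g' hh]
      exact Fn.congr η (funext fun k => Category.assoc _ _ _) (cons_comp g' g (t 0) s).symm _ _
    · rw [← res_comp, hy2 T t s hs (g' ≫ g) j ((Category.assoc _ _ _).trans (hj.trans (Category.assoc _ _ _).symm)),
        hy2 T' (fun k => g ≫ t k) (fun k => g ≫ s k) (hs.comp p hp g) g' j hj]
  · refine cover_ext p hp hsep (t 0) s hs _ _ (fun {T'} g hh => ?_) fun {T'} g j hj => ?_
    · let σ' : Equiv.Perm (Fin (q + 1 + 1)) := Equiv.Perm.decomposeFin.symm (0, σ)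
      have hsig : Equiv.Perm.sign σ' = Equiv.Perm.sign σ := by
        rw [Equiv.Perm.decomposeFin.symm_sign, if_pos rfl, one_mul]
      let c : Fin (q + 1 + 1) → (_ ⟶ e0 p hp) := Fin.cons (g ≫ t 0) fun k => g ≫ s k
      have e : (Fin.cons (g ≫ t 0) fun k => g ≫ s (σ k) : Tup p hp (q + 1 + 1) T') = fun k => c (σ' k) := funext fun k => by
        induction k using Fin.cases with
        | zero => rw [Equiv.Perm.decomposeFin_symm_apply_zero]; rfl
        | succ k => rw [Equiv.Perm.decomposeFin_symm_apply_succ, Equiv.swap_self, Equiv.refl_apply]; rfl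
      have hh' : Inj p hp (fun k => c (σ' k)) := hh.reindex p hp σ'.injective
      rw [hy1 T t (fun k => s (σ k)) (hs.reindex p hp σ.injective) g (Inj.of_eq e.symm hh'), map_zsmul, hy1 T t s hs g hh, Fn.congr η rfl e _ hh',
        hη.alt _ c hh σ', hsig]
    · rw [map_zsmul, hy2 T t s hs g j hj, smul_zero,
        hy2 T t (fun k => s (σ k)) (hs.reindex p hp σ.injective) g (σ.symm j) (by rw [Equiv.apply_symm_apply]; exact hj)]
  · funext T t s hs
    refine cover_ext p hp hsep (t 0) s hs _ _ (fun {T'} g hh => ?_) fun {T'} g j hj => ?_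
    · simp only [dS, map_sum, map_zsmul]
      have hd : dS η T' (fun k => g ≫ t k) (Fin.cons (g ≫ t 0) fun k => g ≫ s k) hh = 0 := by rw [h0]; rfl
      rw [dS, Fin.sum_univ_succ, add_eq_zero_iff_eq_neg, ← Finset.sum_neg_distrib] at hd
      simp only [Fin.val_zero, pow_zero, one_smul, Fin.val_succ, pow_succ, mul_neg, mul_one, neg_smul, neg_neg] at hd
      rw [hη.nat g]
      refine Eq.trans ?_ ((Fn.congr η rfl (funext fun k => ?_) _ _).trans hd).symm
      · refine Finset.sum_congr rfl fun i _ => congrArg _ ?_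
        have e : (Fin.cons (g ≫ t 0) fun k => g ≫ s (i.succAbove k) : Tup p hp (q + 1 + 1) T') =
            fun k => (Fin.cons (g ≫ t 0) fun k => g ≫ s k : Fin (q + 1 + 1 + 1) → _) (i.succ.succAbove k) := funext fun k => by
          induction k using Fin.cases with
          | zero => rw [Fin.succ_succAbove_zero]; rfl
          | succ k => rw [Fin.succ_succAbove_succ]; rfl
        have hh' := hh.reindex p hp (Fin.succAbove_right_injective (p := i.succ))
        rw [hy1 T t (fun k => s (i.succAbove k)) (hs.reindex p hp Fin.succAbove_right_injective) g (Inj.of_eq e.symm hh'),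
          Fn.congr η rfl e _ hh']
      · rw [Fin.succAbove_zero, Fin.cons_succ]
    · simp only [dS, map_sum, map_zsmul]
      rw [Finset.sum_eq_single j (fun i _ hij => ?_) (fun h => absurd (Finset.mem_univ j) h)]
      · let c : Fin (q + 1 + 1) → (T' ⟶ e0 p hp) := fun k => g ≫ s k
        have hc : Inj p hp c := hs.comp p hp g
        have e : (Fin.cons (g ≫ t 0) fun k => g ≫ s (j.succAbove k) : Tup p hp (q + 1 + 1) T') = fun k => c (j.cycleRange.symm k) :=
          funext fun k => by
            induction k using Fin.cases with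
            | zero => rw [Fin.cons_zero, Fin.cycleRange_symm_zero]; exact hj
            | succ k => rw [Fin.cons_succ, Fin.cycleRange_symm_succ]
        have hh' := hc.reindex p hp j.cycleRange.symm.injective
        rw [hy1 T t (fun k => s (j.succAbove k)) (hs.reindex p hp Fin.succAbove_right_injective) g (Inj.of_eq e.symm hh'),
          Fn.congr η rfl e _ hh', hη.alt _ c hc j.cycleRange.symm,
          Equiv.Perm.sign_symm, Fin.sign_cycleRange, Units.val_pow_eq_pow_val, Units.val_neg, Units.val_one,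
          smul_smul, ← pow_add, ← two_mul, pow_mul, neg_one_sq, one_pow, one_smul, hη.nat g]
      · obtain ⟨k, hk⟩ := Fin.exists_succAbove_eq (Ne.symm hij)
        rw [hy2 T t (fun k => s (i.succAbove k)) (hs.reindex p hp Fin.succAbove_right_injective) g k (by rw [hk]; exact hj), smul_zero]

include hsep in
/-- A closed augmentation comes from a cochain. -/
theorem exists_aug_eq {n : ℕ} {η : Fn p hp M n 0} (hη : Good η) (h0 : dS η = 0) :
    ∃ x : Fn0 p hp M n, Nat0 x ∧ aug x = η := by
  refine ⟨fun T t => η T t (fun _ => t 0) (inj_single _), fun g t => hη.nat g t _ _, ?_⟩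
  funext T t s hs
  refine cover_ext p hp hsep (t 0) s hs _ _ (fun {T'} g hh => ?_) fun {T'} g j hj => ?_
  · change res M g (η T t (fun _ => t 0) _) = _
    rw [hη.nat g, hη.nat g]
    have hd : dS η T' (fun k => g ≫ t k) (Fin.cons (g ≫ t 0) fun k => g ≫ s k) hh = 0 := by rw [h0]; rfl
    rw [dS, Fin.sum_univ_two] at hd
    simp only [Fin.val_zero, pow_zero, one_smul, Fin.val_one, pow_one, neg_smul, add_neg_eq_zero] at hd
    refine (Fn.congr η rfl (funext fun k => ?_) _ _).trans (hd.symm.trans (Fn.congr η rfl (funext fun k => ?_) _ _))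
    · obtain rfl : k = 0 := Fin.eq_zero k
      rfl
    · obtain rfl : k = 0 := Fin.eq_zero k
      rfl
  · change res M g (η T t (fun _ => t 0) _) = _
    rw [hη.nat g, hη.nat g]
    refine Fn.congr η rfl (funext fun k => ?_) _ _
    obtain rfl : k = 0 := Fin.eq_zero k
    obtain rfl : j = 0 := Fin.eq_zero j
    exact hj

variable (p hp)

/-- The trace function on a tuple. -/
def alphaAt {m : ℕ} (α : WRing p hp hsep m) {T : EtOver X} (s : Tup p hp (m + 1) T) (h : Inj p hp s) : Ring T :=
  rho (exists_wLift p hp hsep m h).choose (ULift.up α)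

theorem alphaAt_nat {m : ℕ} (α : WRing p hp hsep m) {T T' : EtOver X} (g : T' ⟶ T) (s : Tup p hp (m + 1) T)
    (h : Inj p hp s) : rho g (alphaAt p hp hsep α s h) = alphaAt p hp hsep α (fun k => g ≫ s k) (h.comp p hp g) := by
  have e : g ≫ (exists_wLift p hp hsep m h).choose = (exists_wLift p hp hsep m (h.comp p hp g)).choose :=
    wobj_ext p hp hsep m fun k => by
      rw [Category.assoc, (exists_wLift p hp hsep m h).choose_spec, (exists_wLift p hp hsep m (h.comp p hp g)).choose_spec]
  rw [alphaAt, alphaAt, ← e, rho_comp]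
  rfl

theorem alphaAt_perm {m : ℕ} (α : WRing p hp hsep m) {T : EtOver X} (s : Tup p hp (m + 1) T) (h : Inj p hp s)
    (σ : Equiv.Perm (Fin (m + 1))) :
    alphaAt p hp hsep α (fun k => s (σ k)) (h.reindex p hp σ.injective) =
      rho (exists_wLift p hp hsep m h).choose (ULift.up (pullFn p hp hsep m σ α)) := by
  have e : (exists_wLift p hp hsep m h).choose ≫ perm p hp hsep m σ =
      (exists_wLift p hp hsep m (h.reindex p hp σ.injective)).choose :=
    wobj_ext p hp hsep m fun k => by
      rw [Category.assoc, perm_wt, (exists_wLift p hp hsep m h).choose_spec,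
        (exists_wLift p hp hsep m (h.reindex p hp σ.injective)).choose_spec]
  rw [alphaAt, ← e, rho_comp]
  rfl

variable {p hp}

include hsep in
set_option maxHeartbeats 1000000 in
/-- Exactness in the ordered variable. -/
theorem exists_dT_eq {n q : ℕ} {η : Fn p hp M (n + 1) q} (hη : Good η) (h0 : dT η = 0) :
    ∃ y : Fn p hp M n q, Good y ∧ dT y = η := by
  obtain ⟨α, hα⟩ := exists_trace_one p hp hsep q
  let y₀ : Fn p hp M n q := fun T t s hs => η T (Fin.cons (s 0) t) s hs
  let term : ∀ (T : EtOver X) (_ : Tup p hp (n + 1) T) (s : Tup p hp (q + 1) T),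
      Inj p hp s → Equiv.Perm (Fin (q + 1)) → sec M T := fun T t s hs σ =>
    (Equiv.Perm.sign σ : ℤ) • alphaAt p hp hsep α (fun k => s (σ k)) (hs.reindex p hp σ.injective) •
      y₀ T t (fun k => s (σ k)) (hs.reindex p hp σ.injective)
  refine ⟨fun T t s hs => ∑ σ, term T t s hs σ, ⟨fun {T T'} g t s hs => ?_, fun {T} t s hs τ => ?_⟩, ?_⟩
  · simp only [term, map_sum, map_zsmul, res_smul, alphaAt_nat, y₀]
    refine Finset.sum_congr rfl fun σ _ => ?_
    rw [hη.nat g]
    refine congrArg _ (congrArg _ (Fn.congr η (funext fun k => ?_) rfl _ _))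
    induction k using Fin.cases with
    | zero => rfl
    | succ k => rfl
  · simp only [Finset.smul_sum]
    refine Fintype.sum_equiv (Equiv.mulLeft τ) _ _ fun σ => ?_
    simp only [term, Equiv.coe_mulLeft, map_mul, Units.val_mul, smul_smul]
    rw [← mul_assoc, Int.units_coe_mul_self, one_mul]
    rfl
  · funext T t s hs
    simp only [dT, term, Finset.smul_sum]
    rw [Finset.sum_comm]
    have key : ∀ σ : Equiv.Perm (Fin (q + 1)),
        ∑ i : Fin (n + 1 + 1), ((-1 : ℤ) ^ (i : ℕ)) •
          y₀ T (fun k => t (i.succAbove k)) (fun k => s (σ k)) (hs.reindex p hp σ.injective) =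
        η T t (fun k => s (σ k)) (hs.reindex p hp σ.injective) := fun σ => by
      have hd : dT η T (Fin.cons (s (σ 0)) t) (fun k => s (σ k)) (hs.reindex p hp σ.injective) = 0 := by rw [h0]; rfl
      rw [dT, Fin.sum_univ_succ, add_eq_zero_iff_eq_neg, ← Finset.sum_neg_distrib] at hd
      simp only [Fin.val_zero, pow_zero, one_smul, Fin.val_succ, pow_succ, mul_neg, mul_one, neg_smul, neg_neg] at hd
      refine Eq.trans ?_ ((Fn.congr η (funext fun k => ?_) rfl _ _).trans hd).symm
      · refine Finset.sum_congr rfl fun i _ => congrArg _ (Fn.congr η (funext fun k => ?_) rfl _ _)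
        induction k using Fin.cases with
        | zero => rw [Fin.succ_succAbove_zero]; rfl
        | succ k => rw [Fin.succ_succAbove_succ]; rfl
      · rw [Fin.succAbove_zero, Fin.cons_succ]
    have h2 : ∀ σ : Equiv.Perm (Fin (q + 1)),
        ∑ i : Fin (n + 1 + 1), ((-1 : ℤ) ^ (i : ℕ)) • (Equiv.Perm.sign σ : ℤ) •
          alphaAt p hp hsep α (fun k => s (σ k)) (hs.reindex p hp σ.injective) •
            y₀ T (fun k => t (i.succAbove k)) (fun k => s (σ k)) (hs.reindex p hp σ.injective) =
        rho (exists_wLift p hp hsep q hs).choose (ULift.up (pullFn p hp hsep q σ α)) • η T t s hs := fun σ => by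
      simp only [smul_comm ((-1 : ℤ) ^ (_ : ℕ))]
      rw [← Finset.smul_sum, ← Finset.smul_sum, key, hη.alt t s hs σ, smul_comm _ (Equiv.Perm.sign σ : ℤ), smul_smul,
        Int.units_coe_mul_self, one_smul, alphaAt_perm]
      try exact hs
    rw [Finset.sum_congr rfl fun σ _ => h2 σ, ← Finset.sum_smul, ← map_sum]
    rw [show (∑ σ : Equiv.Perm (Fin (q + 1)), (ULift.up (pullFn p hp hsep q σ α) :
        Ring (Wobj p hp hsep q))) = 1 from ULift.ext _ _ ((map_sum ULift.ringEquiv _ _).trans hα), map_one, one_smul]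

include hsep in
/-- The cochain complex is exact above the bound on the fibres. -/
theorem exists_d0_eq {d : ℕ} (hd : ∀ x : FieldPt X, x.IsGeometric → ENat.card ((FieldPt.liftsTo x).obj (e0 p hp)) ≤ d)
    {N : ℕ} (hN : d ≤ N + 1) {x : Fn0 p hp M (N + 1)} (hx : Nat0 x) (h0 : d0 x = 0) :
    ∃ c : Fn0 p hp M N, Nat0 c ∧ d0 c = x := by
  have stair : ∀ (n q : ℕ), n + q = N → ∀ y : Fn p hp M n q, Good y → dT (dS y) = 0 →
      ∃ y' : Fn p hp M n q, Good y' ∧ dT y' = dT y ∧ dS y' = 0 := by
    intro n
    induction n with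
    | zero =>
      intro q hq y hy _
      refine ⟨y, hy, rfl, funext fun T => funext fun t => funext fun s => funext fun hs => ?_⟩
      exact sec_eq_of_isEmpty (card_lt_of_inj p hp hd (by omega) hs) _ _
    | succ n ih =>
      intro q hq y hy hdy
      obtain ⟨y₁, hy₁, e₁⟩ := exists_dT_eq hsep hy.dS hdy
      obtain ⟨y₁', hy₁', e₁', e₁''⟩ := ih (q + 1) (by omega) y₁ hy₁ (by rw [dT_dS, e₁, dS_dS])
      obtain ⟨z, hz, ez⟩ := exists_dS_eq hsep hy₁' e₁''
      refine ⟨y - dT z, hy.sub hz.dT, by rw [dT_sub, dT_dT]; funext T t s h; exact sub_zero _, ?_⟩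
      rw [dS_sub, ← dT_dS, ez, e₁', e₁]; funext T t s h; exact sub_self _
  obtain ⟨y₀, hy₀, e₀⟩ := exists_dT_eq hsep (good_aug hx) (by rw [dT_aug, h0]; rfl)
  obtain ⟨y', hy', e', e''⟩ := stair N 0 rfl y₀ hy₀ (by rw [dT_dS, e₀, dS_aug])
  obtain ⟨c, hc, ec⟩ := exists_aug_eq hsep hy' e''
  refine ⟨c, hc, funext fun T => funext fun t => ?_⟩
  have e : aug (d0 c) = aug x := by rw [← dT_aug, ec, e', e₀]
  exact congrFun (congrFun (congrFun (congrFun e T) t) fun _ => t 0) (inj_single _)

end AlgSpFibBound
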