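import Groth.Agent.AlgSpFibBoundLib.Bicomplex
import Groth.Agent.AlgSpCohColimLib.Colim
import Groth.Agent.ModEtQcLib.PushH

/-!
# Vanishing of quasi-coherent cohomology above the number of points in the fibres of an atlas
-/

set_option autoImplicit false
set_option linter.unusedSectionVars false
set_option linter.style.haveILetI false
set_option backward.isDefEq.respectTransparency false
set_option backward.isDefEq.respectTransparency.types false
set_option maxHeartbeats 1000000
set_option synthInstance.maxHeartbeats 100000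

universe u

open CategoryTheory CategoryTheory.Limits CategoryTheory.Abelian AlgebraicGeometry Opposite AlgSp
open Groth.Agent AlgSpCohColim ModEtQc

noncomputable section

namespace AlgSpFibBound

variable {S : Scheme.{u}} [S.IsSeparated] {X : Sp S} {U : Over S} [IsAffine U.left]
  (p : (yon S).obj U ⟶ X) (hp : RepWith @Etale p) (hs : RepWith @Surjective p) (hsep : IsSeparatedSp X)

include hsep in
theorem hExact_quotient_aff {T : ShortComplex (AbEt X)} (hT : T.ShortExact) [Injective T.X₂]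
    (hA : AffAcyclic T.X₁) (n : ℕ) (h : EpsLib.HExact (nerve p hp) (ext0 T.X₁.obj) (n + 1)) :
    EpsLib.HExact (nerve p hp) (ext0 T.X₃.obj) n := fun x hx => by
  let N := nerve p hp
  let φ := ext0Map T.f.hom
  let ψ := ext0Map T.g.hom
  obtain ⟨x', hx'⟩ := surjective_sections_affine hT hA (isAffine_pw p hp hsep (n + 1)) x
  have hx2 : ψ.app (op (N.obj (n + 1 + 1))) (EpsLib.cechD N (ext0 T.X₂.obj) (n + 1) x') = 0 := by
    rw [EpsLib.cechD_natural]
    exact (congrArg (EpsLib.cechD N (ext0 T.X₃.obj) (n + 1)) hx').trans hx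
  obtain ⟨w, hw⟩ := (EpsLib.sections_exact hT (pw p hp (n + 1 + 1))).2 _ hx2
  obtain ⟨v, hv⟩ := h w ((EpsLib.sections_exact hT (pw p hp (n + 1 + 1 + 1))).1 (by
    refine ((EpsLib.cechD_natural N φ (n + 1 + 1) w).trans ?_).trans (map_zero _).symm
    exact (congrArg (EpsLib.cechD N (ext0 T.X₂.obj) (n + 1 + 1)) hw).trans (EpsLib.cechD_cechD _ _ _ _)))
  obtain ⟨y, hy⟩ := gExact_injective p hp T.X₂ n
    ((show (ext0 T.X₂.obj).obj (op (N.obj (n + 1))) from x') - φ.app (op (N.obj (n + 1))) v) (by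
    rw [map_sub, ← EpsLib.cechD_natural, hv]
    exact sub_eq_zero.2 hw.symm)
  refine ⟨ψ.app (op (N.obj n)) y, ?_⟩
  rw [← EpsLib.cechD_natural, hy, map_sub]
  have h0 : ψ.app (op (N.obj (n + 1))) (φ.app (op (N.obj (n + 1))) v) = 0 :=
    congrArg (fun k : T.X₁ ⟶ T.X₃ => k.hom.app (op (pw p hp (n + 1))) v) T.zero
  rw [h0, sub_zero]
  exact hx'

include hs hsep in
theorem exists_lift_global_aff {T : ShortComplex (AbEt X)} (hT : T.ShortExact) (hA : AffAcyclic T.X₁)
    (hG : EpsLib.HExact (nerve p hp) (ext0 T.X₁.obj) 0) (s : constX X ⟶ T.X₃) :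
    ∃ t : constX X ⟶ T.X₂, t ≫ T.g = s := by
  let N := nerve p hp
  let x := homFam _ s
  obtain ⟨s₀, hs₀⟩ := surjective_sections_affine hT hA (E := e0 p hp) ‹IsAffine U.left› (x.1 (e0 p hp))
  have h1 : (ext0Map T.g.hom).app (op (N.obj 1)) (EpsLib.cechD N (ext0 T.X₂.obj) 0 s₀) = 0 := by
    rw [EpsLib.cechD_natural]
    refine (congrArg (EpsLib.cechD N (ext0 T.X₃.obj) 0) hs₀).trans ((cechD_zero_eq p hp _).trans ?_)
    rw [x.2, x.2, sub_self]
  obtain ⟨y, hy⟩ := (EpsLib.sections_exact hT (pw p hp 1)).2 _ h1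
  obtain ⟨v, hv⟩ := hG y ((EpsLib.sections_exact hT (pw p hp 2)).1 (by
    refine ((EpsLib.cechD_natural N (ext0Map T.f.hom) 1 y).trans ?_).trans (map_zero _).symm
    exact (congrArg (EpsLib.cechD N (ext0 T.X₂.obj) 1) hy).trans (EpsLib.cechD_cechD _ _ _ _)))
  let s₁ : T.X₂.obj.obj (op (e0 p hp)) := s₀ - T.f.hom.app (op (e0 p hp)) v
  have h2 : EpsLib.cechD N (ext0 T.X₂.obj) 0 s₁ = 0 := by
    refine (map_sub (EpsLib.cechD N (ext0 T.X₂.obj) 0) s₀ _).trans (sub_eq_zero.2 ?_)
    refine Eq.trans ?_ (EpsLib.cechD_natural N (ext0Map T.f.hom) 0 v)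
    rw [hv]
    exact hy.symm
  obtain ⟨z, hz⟩ := exists_fam p hp hs s₁ (sub_eq_zero.1 ((cechD_zero_eq p hp s₁).symm.trans h2))
  refine ⟨(homFam _).symm z, (homFam _).injective (fam_ext p hp hs ?_)⟩
  rw [homFam_comp, AddEquiv.apply_symm_apply, hz, map_sub, hs₀]
  have h0 : T.g.hom.app (op (e0 p hp)) (T.f.hom.app (op (e0 p hp)) v) = 0 :=
    congrArg (fun k : T.X₁ ⟶ T.X₃ => k.hom.app (op (e0 p hp)) v) T.zero
  rw [h0, sub_zero]

include hs hsep in
/-- Vanishing of cohomology in one degree from exactness of the Čech complex of an affine atlas in that degree. -/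
theorem subsingleton_ext_of_hExact : ∀ (q : ℕ) (G : AbEt X), AffAcyclic G →
    EpsLib.HExact (nerve p hp) (ext0 G.obj) q → Subsingleton (Ext.{u + 1} (constX X) G (q + 1))
  | 0, G, hA, hG => by
    haveI : Injective (CohLib.injSC G).X₂ := inferInstanceAs (Injective (Injective.under G))
    haveI := CohLib.subsingleton_ext_injective.{u + 1} (constX X) (CohLib.injSC G).X₂ 0
    exact CohLib.subsingleton_ext_one_of_lift (CohLib.injSC_shortExact G)
      (exists_lift_global_aff p hp hs hsep (CohLib.injSC_shortExact G) hA hG)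
  | q + 1, G, hA, hG => by
    haveI : Injective (CohLib.injSC G).X₂ := inferInstanceAs (Injective (Injective.under G))
    haveI := CohLib.subsingleton_ext_injective.{u + 1} (constX X) (CohLib.injSC G).X₂ (q + 1)
    haveI := subsingleton_ext_of_hExact q _ (affAcyclic_quotient (CohLib.injSC_shortExact G) hA)
      (hExact_quotient_aff p hp hsep (CohLib.injSC_shortExact G) hA q hG)
    exact CohLib.subsingleton_ext_of_shift (CohLib.injSC_shortExact G)

/-- A face of the nerve, in the site. -/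
def fc (n : ℕ) (i : Fin (n + 1 + 1)) : pw p hp (n + 1) ⟶ pw p hp n := WithTerminal.down ((nerve p hp).face n i)

theorem fc_pr (n : ℕ) (i : Fin (n + 1 + 1)) (k : Fin (n + 1)) :
    fc p hp n i ≫ pwPr p hp n k = pwPr p hp (n + 1) (i.succAbove k) :=
  (nerve p hp).face_pr n i k

theorem cechD_apply_fc (M : ModEt X) (n : ℕ) (y : sec M (pw p hp n)) :
    EpsLib.cechD (nerve p hp) (ext0 ((toAbEt X).obj M).obj) n y =
      ∑ i : Fin (n + 1 + 1), ((-1 : ℤ) ^ (i : ℕ)) • res M (fc p hp n i) y :=
  (EpsLib.cechD_apply _ _ _ _).trans rfl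

include hsep in
theorem hExact_of_fibre_bound (M : ModEt X) {d : ℕ}
    (hd : ∀ x : FieldPt X, x.IsGeometric → ENat.card ((FieldPt.liftsTo x).obj (e0 p hp)) ≤ d)
    {N : ℕ} (hN : d ≤ N + 1) : EpsLib.HExact (nerve p hp) (ext0 ((toAbEt X).obj M).obj) N := by
  intro x₀ hx
  let x : sec M (pw p hp (N + 1)) := x₀
  let η : Fn0 p hp M (N + 1) := fun T t => res M (exists_pwLift p hp (N + 1) t).choose x
  have hη : Nat0 η := fun {T T'} g t => by
    rw [← res_comp]
    refine res_congr M (pw_ext p hp _ _ _ fun k => ?_) x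
    rw [Category.assoc, (exists_pwLift p hp (N + 1) t).choose_spec,
      (exists_pwLift p hp (N + 1) fun k => g ≫ t k).choose_spec]
  have h0 : d0 η = 0 := funext fun T => funext fun t => by
    let l := (exists_pwLift p hp (N + 1 + 1) t).choose
    have hl : ∀ k, l ≫ pwPr p hp (N + 1 + 1) k = t k := (exists_pwLift p hp (N + 1 + 1) t).choose_spec
    have e : res M l (EpsLib.cechD (nerve p hp) (ext0 ((toAbEt X).obj M).obj) (N + 1) x : sec M (pw p hp (N + 1 + 1))) =
        d0 η T t := by
      rw [cechD_apply_fc, map_sum]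
      refine Finset.sum_congr rfl fun i _ => ?_
      rw [map_zsmul, ← res_comp]
      refine congrArg _ (res_congr M (pw_ext p hp _ _ _ fun k => ?_) x)
      rw [Category.assoc, fc_pr, hl]
      exact ((exists_pwLift p hp (N + 1) fun k => t (i.succAbove k)).choose_spec k).symm
    rw [← e]
    exact (congrArg (res M l) hx).trans (map_zero _)
  obtain ⟨c, hc, ec⟩ := exists_d0_eq hsep hd hN hη h0
  refine ⟨c (pw p hp N) (pwPr p hp N), ?_⟩
  rw [cechD_apply_fc]
  refine Eq.trans (Finset.sum_congr rfl fun i _ => congrArg _ ((hc (fc p hp N i) _).trans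
    (congrArg (c _) (funext fun k => fc_pr p hp N i k)))) ?_
  refine (congrFun (congrFun ec (pw p hp (N + 1))) (pwPr p hp (N + 1))).trans ?_
  have he : (exists_pwLift p hp (N + 1) (pwPr p hp (N + 1))).choose = 𝟙 _ := pw_ext p hp _ _ _ fun k => by
    rw [(exists_pwLift p hp (N + 1) (pwPr p hp (N + 1))).choose_spec, Category.id_comp]
  show res M _ x = x
  rw [res_congr M he]
  exact congrArg (fun f => f x) (congrArg (fun f => f.hom) (M.val.map_id (op (pw p hp (N + 1)))))

include hs hsep in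
/-- Vanishing of quasi-coherent cohomology at and above a bound for the geometric fibres of an affine atlas. -/
theorem subsingleton_HModEt_of_fibre_bound (M : ModEt X) [M.IsQuasicoherent] {d : ℕ}
    (hd : ∀ x : FieldPt X, x.IsGeometric → ENat.card ((FieldPt.liftsTo x).obj (e0 p hp)) ≤ d)
    {q : ℕ} (hq : d ≤ q) : Subsingleton (HModEt X M q) := by
  rcases q with _ | q
  · refine (famEquiv ((toAbEt X).obj M)).toEquiv.subsingleton_congr.2 ⟨fun a b => fam_ext p hp hs ?_⟩
    exact sec_eq_of_isEmpty (card_lt_of_inj p hp hd (m := 1) (by omega) (inj_single (𝟙 (e0 p hp)))) _ _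
  · exact subsingleton_ext_of_hExact p hp hs hsep q _ (affAcyclic_of_bc M (bc_of_isQuasicoherent M))
      (hExact_of_fibre_bound p hp hsep M hd hq)

end AlgSpFibBound
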